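import Cfsg.Agent.H29.ThreeJ.Code
import Cfsg.Agent.H29.CosetCert.Sound

/-!
# From coded vectors to `F₄⁹`
-/

set_option autoImplicit false

namespace H29.ThreeJ

open Cfsg.Spor H29.CosetCert
open scoped Matrix

theorem ix_lt (z : F9) : ix z < 9 := by revert z; decide

theorem fz_ix (z : F9) : fz (ix z) = z := by revert z; decide

theorem ix_fz {j : ℕ} (h : j < 9) : ix (fz j) = j := by
  interval_cases j <;> decide

theorem dig_lt (v j : ℕ) : dig v j < 4 := Nat.mod_lt _ (by norm_num)

theorem dig_xor (a b j : ℕ) : dig (a ^^^ b) j = dig a j ^^^ dig b j := by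
  unfold dig
  rw [show (4 : ℕ) = 2 ^ 2 by norm_num, ← Nat.shiftRight_eq_div_pow, ← Nat.shiftRight_eq_div_pow,
    ← Nat.shiftRight_eq_div_pow, Nat.shiftRight_xor_distrib, Nat.xor_mod_two_pow]

theorem mul4_lt (a b : ℕ) : mul4 a b < 4 := by
  unfold mul4
  rcases Bool.eq_false_or_eq_true (a == 0 || b == 0) with h | h <;> rw [h] <;> simp
  omega

theorem foldr_xor_lt (f : ℕ → ℕ) (hf : ∀ j, f j < 4) (l : List ℕ) :
    l.foldr (fun j s => f j ^^^ s) 0 < 4 := by
  induction l with
  | nil => norm_num
  | cons a l ih => exact Nat.xor_lt_two_pow (n := 2) (hf a) ih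

theorem rowApp_lt (M : F9 → F9 → ℕ) (v : ℕ) (w : F9) : rowApp M v w < 4 :=
  foldr_xor_lt _ (fun _ => mul4_lt _ _) _

section

variable {F : Type} [Field F] [Fintype F] (ω : F)

/-- The value of a coded field element. -/
def κ (n : ℕ) : F := if n = 0 then 0 else if n = 1 then 1 else if n = 2 then ω else ω ^ 2

/-- The value of a coded vector. -/
def κv (v : ℕ) : F9 → F := fun z => κ ω (dig v (ix z))

theorem two_eq_zero (hF : Fintype.card F = 4) : (2 : F) = 0 := by
  have h := Nat.cast_card_eq_zero (R := F)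
  rw [hF] at h
  exact mul_self_eq_zero.1 (by linear_combination h)

variable {ω} (hF : Fintype.card F = 4) (hω : ω ^ 2 + ω + 1 = 0)

include hF hω

theorem omega_ne_zero : ω ≠ 0 := fun h => by simp [h] at hω

theorem omega_ne_one : ω ≠ 1 := fun h => by
  subst h
  exact one_ne_zero (α := F) (by linear_combination hω - two_eq_zero hF)

theorem κ_inj {a b : ℕ} (ha : a < 4) (hb : b < 4) (h : κ ω a = κ ω b) : a = b := by
  have h0 := omega_ne_zero hF hω
  have h1 := omega_ne_one hF hω
  have h00 : ω ^ 2 ≠ 0 := pow_ne_zero 2 h0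
  have h2 : ω ^ 2 ≠ 1 := fun e => h0 (by linear_combination hω - e - two_eq_zero hF)
  have h3 : ω ^ 2 ≠ ω := fun e => one_ne_zero (α := F)
    (by linear_combination hω - e - ω * two_eq_zero hF)
  interval_cases a <;> interval_cases b <;> first
    | rfl
    | (simp [κ, h0, h1, h00, h2, h3, Ne.symm h0, Ne.symm h1, Ne.symm h00, Ne.symm h2,
        Ne.symm h3] at h)

theorem κ_xor {a b : ℕ} (ha : a < 4) (hb : b < 4) : κ ω (a ^^^ b) = κ ω a + κ ω b := by
  have t := two_eq_zero hF
  interval_cases a <;> interval_cases b <;> simp [κ] <;> first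
    | linear_combination t
    | linear_combination -t
    | linear_combination ω * t
    | linear_combination -ω * t
    | linear_combination ω ^ 2 * t
    | linear_combination -ω ^ 2 * t
    | linear_combination hω
    | linear_combination -hω
    | linear_combination hω - t
    | linear_combination -hω + t
    | linear_combination hω - ω * t
    | linear_combination -hω + ω * t
    | linear_combination hω - ω ^ 2 * t
    | linear_combination -hω + ω ^ 2 * t

theorem κ_mul {a b : ℕ} (ha : a < 4) (hb : b < 4) : κ ω (mul4 a b) = κ ω a * κ ω b := by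
  have h3 : ω ^ 3 = 1 := by linear_combination (ω - 1) * hω
  interval_cases a <;> interval_cases b <;> simp [κ, mul4] <;> first
    | linear_combination h3
    | linear_combination -h3
    | linear_combination ω * h3
    | linear_combination -ω * h3
    | ring

omit [Fintype F] hF hω in
theorem omegaPow_eq (n : ZMod 3) : omegaPow F ω n = κ ω (op n) := by
  fin_cases n <;> simp [omegaPow, op, κ, ZMod.val] <;> rfl

theorem κv_xor (a b : ℕ) : κv ω (a ^^^ b) = κv ω a + κv ω b := by
  funext z
  simp only [κv, Pi.add_apply, dig_xor]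
  exact κ_xor hF hω (dig_lt _ _) (dig_lt _ _)

/-- A coded matrix and its value. -/
theorem mulVec_code {M : Matrix F9 F9 F} {C : F9 → F9 → ℕ} (hC : ∀ w z, C w z < 4)
    (hM : ∀ w z, M w z = κ ω (C w z)) (v : ℕ) (w : F9) :
    (M *ᵥ κv ω v) w = κ ω (rowApp C v w) := by
  have key : ∀ l : List ℕ, κ ω (l.foldr (fun j s => mul4 (C w (fz j)) (dig v j) ^^^ s) 0) =
      (l.map fun j => M w (fz j) * κ ω (dig v j)).sum := by
    intro l
    induction l with
    | nil => simp [κ]
    | cons a l ih =>
      rw [List.foldr_cons, κ_xor hF hω (mul4_lt _ _) (foldr_xor_lt _ (fun _ => mul4_lt _ _) l), ih,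
        List.map_cons, List.sum_cons, κ_mul hF hω (hC _ _) (dig_lt _ _), hM]
  rw [rowApp, key]
  have hu : (Finset.univ : Finset F9) = (Finset.range 9).image fz := by decide
  rw [Matrix.mulVec, dotProduct, hu,
    Finset.sum_image (fun a ha b hb e => by
      rw [← ix_fz (Finset.mem_range.1 ha), e, ix_fz (Finset.mem_range.1 hb)])]
  rw [Finset.sum_eq_multiset_sum]
  refine congrArg List.sum (List.map_congr_left fun j hj => ?_)
  rw [κv, ix_fz (List.mem_range.1 hj)]

end

theorem cBase_lt (b : ℕ) (w z : F9) : cBase b w z < 4 := by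
  have hop : ∀ n, op n < 4 := fun n => by have := n.val_lt; unfold op; omega
  have hl : ∀ Z z : F9, cLam Z z < 4 := fun Z z => by unfold cLam; split_ifs <;> norm_num
  have h : ∀ Z w z : F9, cA Z w z < 4 ∧ cE Z w z < 4 ∧ cD Z w z < 4 ∧ cB Z w z < 4 ∧ cC Z w z < 4 := by
    intro Z w z
    unfold cA cE cD cB cC
    refine ⟨?_, ?_, ?_, ?_, ?_⟩ <;> split_ifs <;>
      first | exact hop _ | exact hl _ _ | norm_num
  unfold cBase
  split <;> first
    | exact (h _ _ _).1
    | exact (h _ _ _).2.1
    | exact (h _ _ _).2.2.1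
    | exact (h _ _ _).2.2.2.1
    | exact (h _ _ _).2.2.2.2
    | (dsimp only; split_ifs <;> norm_num)

section

variable (F : Type) [Field F] (ω : F)

/-- The base matrices. -/
def baseMat : ℕ → Matrix F9 F9 F
  | 0 => j3A F ω (1, 0)
  | 1 => j3E F ω (0, 0)
  | 2 => j3D F ω (1, 0)
  | 3 => j3B F (1, 1)
  | 4 => j3C F (1, 0)
  | _ => Matrix.diagonal fun _ => ω

end

section

variable {F : Type} [Field F] {ω : F}

theorem j3A_code (Z w z : F9) : j3A F ω Z w z = κ ω (cA Z w z) := by
  by_cases h : w = z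
  · subst h; simp [j3A, cA, omegaPow_eq]
  · simp [j3A, cA, h, κ]

theorem j3E_code (Z w z : F9) : j3E F ω Z w z = κ ω (cE Z w z) := by
  by_cases h : w = z
  · subst h; simp [j3E, cE, omegaPow_eq]
  · simp [j3E, cE, h, κ]

theorem j3D_code (Z w z : F9) : j3D F ω Z w z = κ ω (cD Z w z) := by
  simp only [j3D, cD, cLam, j3Lam, Matrix.of_apply]
  split_ifs <;> simp [κ]

theorem j3B_code (Z w z : F9) : j3B F Z w z = κ ω (cB Z w z) := by
  simp only [j3B, cB, Matrix.of_apply]
  split_ifs <;> simp [κ]

theorem j3C_code (Z w z : F9) : j3C F Z w z = κ ω (cC Z w z) := by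
  simp only [j3C, cC, Matrix.of_apply]
  split_ifs <;> simp [κ]

theorem baseMat_code (b : ℕ) (w z : F9) : baseMat F ω b w z = κ ω (cBase b w z) := by
  rcases b with _ | _ | _ | _ | _ | b
  · exact j3A_code _ _ _
  · exact j3E_code _ _ _
  · exact j3D_code _ _ _
  · exact j3B_code _ _ _
  · exact j3C_code _ _ _
  · show Matrix.diagonal (fun _ => ω) w z = κ ω (if w = z then 2 else 0)
    by_cases h : w = z <;> simp [h, κ]

end

end H29.ThreeJ
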