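import Cfsg.Agent.H29.CosetCert.Check
import Cfsg.Prelude.Def_Spor_J3

/-!
# Computing with vectors in `F₄⁹`

A vector is coded by 18 bits, two for each coordinate: `0, 1, 2, 3` stand for `0, 1, ω, ω²`.
-/

set_option autoImplicit false

namespace H29.ThreeJ

open Cfsg.Spor H29.CosetCert

/-- Product of coded field elements. -/
def mul4 (a b : ℕ) : ℕ := bif a == 0 || b == 0 then 0 else (a + b - 2) % 3 + 1

/-- The coordinate `j` of a coded vector. -/
def dig (v j : ℕ) : ℕ := v / 2 ^ (2 * j) % 4

/-- The position of a coordinate. -/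
def ix (z : F9) : ℕ := 3 * z.1.val + z.2.val

/-- The coordinate at a position. -/
def fz (j : ℕ) : F9 := ((j / 3 : ℕ), (j : ℕ))

/-- The coded power of `ω`. -/
def op (n : ZMod 3) : ℕ := n.val + 1

/-- Coded entries of `A_Z`. -/
def cA (Z w z : F9) : ℕ := if w = z then op (Z.1 * w.1 + Z.2 * w.2) else 0

/-- Coded entries of `E_Z`. -/
def cE (Z w z : F9) : ℕ := if w = z then op ((Z.1 - w.1) ^ 2 + (Z.2 - w.2) ^ 2) else 0

/-- Coded coefficient of `D_Z`. -/
def cLam (Z z : F9) : ℕ :=
  if z = 0 then 1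
  else if F9.div Z z = F9.I - F9.one then 2
  else if F9.div Z z = -F9.I - F9.one then 3
  else 1

/-- Coded entries of `D_Z`. -/
def cD (Z w z : F9) : ℕ := if w = z + Z then cLam Z z else 0

/-- Coded entries of `B_Z`. -/
def cB (Z w z : F9) : ℕ := if w = F9.mul Z z then 1 else 0

/-- Coded entries of `C_Z`. -/
def cC (Z w z : F9) : ℕ :=
  if z = 0 then (if w = 0 then 1 else 0)
  else if w = -F9.div Z z ∨ w = F9.mul F9.I (F9.div Z z) ∨ w = -F9.mul F9.I (F9.div Z z) then 1
  else 0

/-- Five base matrices, and multiplication by `ω`. -/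
def cBase : ℕ → F9 → F9 → ℕ
  | 0 => cA (1, 0)
  | 1 => cE (0, 0)
  | 2 => cD (1, 0)
  | 3 => cB (1, 1)
  | 4 => cC (1, 0)
  | _ => fun w z => if w = z then 2 else 0

/-- One coordinate of a coded matrix applied to a coded vector. -/
def rowApp (M : F9 → F9 → ℕ) (v : ℕ) (w : F9) : ℕ :=
  (List.range 9).foldr (fun j s => mul4 (M w (fz j)) (dig v j) ^^^ s) 0

/-- Apply by three lookup tables, packed one trie per matrix. -/
def apT (t : Tr) (v : ℕ) : ℕ :=
  t.get (v % 64) ^^^ t.get (64 + v / 64 % 64) ^^^ t.get (128 + v / 4096)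

/-- Apply a word of tables, last letter first. -/
def apW (T : ℕ → Tr) : List ℕ → ℕ → ℕ
  | [], v => v
  | b :: w, v => match apW T w v with
    | 0 => apT (T b) 0
    | n + 1 => apT (T b) (n + 1)

/-- Check that the tables of matrix `b` give its action on vectors supported on one block. -/
def tabOK (T : ℕ → Tr) (b : ℕ) : Bool :=
  allIn (fun r => allIn (fun c => Nat.blt ((T b).get (64 * c + r)) (2 ^ 18) &&
    allIn (fun j => dig ((T b).get (64 * c + r)) j == rowApp (cBase b) (r * 64 ^ c) (fz j)) 0 9) 0 3)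
    0 64

/-- Check that a coded matrix is the product of a word of base matrices. -/
def wordOK (T : ℕ → Tr) (M : F9 → F9 → ℕ) (w : List ℕ) : Bool :=
  w.all (fun b => Nat.blt b 6) && allIn (fun j => allIn (fun i =>
    dig (apW T w (4 ^ j)) i == M (fz i) (fz j)) 0 9) 0 9

/-- A listed family of vectors. -/
structure Fam where
  /-- number of vectors -/
  n : ℕ
  /-- entry `i`: the vector, its parent and the matrix leading from the parent to it -/
  ord : ℕ → ℕ
  /-- one plus the index of a vector, or `0` -/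
  rk : ℕ → ℕ

/-- The `i`th vector. -/
def Fam.vec (L : Fam) (i : ℕ) : ℕ := L.ord i % 262144

/-- Membership of a vector. -/
def Fam.mem (L : Fam) (v : ℕ) : Bool :=
  match L.rk v with
  | 0 => false
  | r + 1 => Nat.blt r L.n && L.vec r == v

/-- Membership up to a scalar. -/
def Fam.memAny (L : Fam) (ws : Tr) (v : ℕ) : Bool :=
  L.mem v || L.mem (apT ws v) || L.mem (apT ws (apT ws v))

/-- Equality up to a scalar. -/
def propTo (ws : Tr) (a b : ℕ) : Bool := a == b || apT ws a == b || apT ws (apT ws a) == b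

/-- The entry `i` is correctly indexed and reached. -/
def Fam.reachOK (L : Fam) (T : ℕ → Tr) (i : ℕ) : Bool :=
  L.rk (L.vec i) == i + 1 && Nat.blt 0 (L.vec i) &&
    (i == 0 || (Nat.blt (L.ord i / 2 ^ 18 % 65536) i && Nat.blt (L.ord i / 2 ^ 34) 5 &&
      propTo (T 5) (apT (T (L.ord i / 2 ^ 34)) (L.vec (L.ord i / 2 ^ 18 % 65536))) (L.vec i)))

/-- The entry `i` is separated from its multiples and has all images listed. -/
def Fam.orbOK (L : Fam) (T : ℕ → Tr) (i : ℕ) : Bool :=
  !(L.mem (apT (T 5) (L.vec i))) && !(L.mem (apT (T 5) (apT (T 5) (L.vec i)))) &&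
    allIn (fun b => L.memAny (T 5) (apT (T b) (L.vec i))) 0 5

/-- Number of coordinates that are nonzero, modulo 2. -/
def weightPar (v : ℕ) : ℕ := (List.range 9).foldr (fun j s => (bif dig v j == 0 then 0 else 1) ^^^ s) 0

/-- The normalized vector number `r` with leading position `j` is listed if isotropic. -/
def Fam.isoOK (L : Fam) (ws : Tr) (j r : ℕ) : Bool :=
  weightPar (4 ^ j + 4 ^ (j + 1) * r) == 1 || L.memAny ws (4 ^ j + 4 ^ (j + 1) * r)

end H29.ThreeJ
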