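import Cfsg.Agent.H29.ThreeJ.Bridge

/-!
# Orbits of `3·J₃` on lines, from checked lists
-/

set_option autoImplicit false

namespace H29.ThreeJ

open Cfsg.Spor H29.CosetCert
open scoped Matrix

/-- Checked tables and words. -/
structure Tabs where
  /-- the tables -/
  T : ℕ → Tr
  /-- words for the five families of generators -/
  WA : List (List ℕ)
  /-- words for `E` -/
  WE : List (List ℕ)
  /-- words for `D` -/
  WD : List (List ℕ)
  /-- words for `B` -/
  WB : List (List ℕ)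
  /-- words for `C` -/
  WC : List (List ℕ)
  /-- exponents killing the base matrices -/
  ord : ℕ → ℕ
  tabs : allIn (tabOK T) 0 6 = true
  words : allIn (fun j => wordOK T (cA (fz j)) (WA.getD j []) &&
    wordOK T (cE (fz j)) (WE.getD j []) && wordOK T (cD (fz j)) (WD.getD j [])) 0 9 = true
  words' : allIn (fun j => wordOK T (cB (fz j)) (WB.getD j []) &&
    wordOK T (cC (fz j)) (WC.getD j [])) 1 8 = true
  pows : allIn (fun b => Nat.blt 0 (ord b) &&
    wordOK T (fun w z => bif decide (w = z) then 1 else 0) (List.replicate (ord b) b)) 0 5 = true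

variable {F : Type} [Field F] [Fintype F] {ω : F} (hF : Fintype.card F = 4)
  (hω : ω ^ 2 + ω + 1 = 0) (D : Tabs)

include hF hω D

theorem apT_spec {b v : ℕ} (hb : b < 6) (hv : v < 2 ^ 18) :
    baseMat F ω b *ᵥ κv ω v = κv ω (apT (D.T b) v) ∧ apT (D.T b) v < 2 ^ 18 := by
  have h := (allIn_iff _ _ _).1 D.tabs b (Nat.zero_le _) (by omega)
  have part : ∀ r c, r < 64 → c < 3 →
      baseMat F ω b *ᵥ κv ω (r * 64 ^ c) = κv ω ((D.T b).get (64 * c + r)) ∧
        (D.T b).get (64 * c + r) < 2 ^ 18 := by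
    intro r c hr hc
    have h := (allIn_iff _ _ _).1 h r (Nat.zero_le _) (by omega)
    have h := (allIn_iff _ _ _).1 h c (Nat.zero_le _) (by omega)
    simp only [Bool.and_eq_true, Nat.blt_eq] at h
    refine ⟨funext fun z => ?_, h.1⟩
    have h2 := (allIn_iff _ _ _).1 h.2 (ix z) (Nat.zero_le _) (by have := ix_lt z; omega)
    rw [beq_iff_eq, fz_ix] at h2
    rw [mulVec_code hF hω (cBase_lt b) (baseMat_code b), κv, h2]
  obtain ⟨e0, l0⟩ := part (v % 64) 0 (Nat.mod_lt _ (by norm_num)) (by norm_num)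
  obtain ⟨e1, l1⟩ := part (v / 64 % 64) 1 (Nat.mod_lt _ (by norm_num)) (by norm_num)
  obtain ⟨e2, l2⟩ := part (v / 4096) 2 (by omega) (by norm_num)
  simp only [pow_zero, mul_one, mul_zero, Nat.zero_add, pow_one] at e0 l0 e1 l1
  norm_num at e2 l2
  have hsplit : κv ω v = κv ω (v % 64) + κv ω (v / 64 % 64 * 64) + κv ω (v / 4096 * 4096) := by
    funext z
    simp only [κv, Pi.add_apply]
    have hj := ix_lt z
    have hk : κ ω 0 = (0 : F) := by simp [κ]
    generalize ix z = j at hj ⊢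
    have hd : dig (v % 64) j = (if j < 3 then dig v j else 0) ∧
        dig (v / 64 % 64 * 64) j = (if 3 ≤ j ∧ j < 6 then dig v j else 0) ∧
        dig (v / 4096 * 4096) j = (if 6 ≤ j then dig v j else 0) := by
      interval_cases j <;> norm_num [dig] <;> omega
    rw [hd.1, hd.2.1, hd.2.2]
    split_ifs <;> first | omega | simp [hk]
  refine ⟨?_, Nat.xor_lt_two_pow (Nat.xor_lt_two_pow l0 l1) l2⟩
  rw [hsplit, Matrix.mulVec_add, Matrix.mulVec_add, apT, κv_xor hF hω, κv_xor hF hω, e0, e1, e2]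

theorem apW_spec : ∀ (w : List ℕ) (v : ℕ), (∀ b ∈ w, b < 6) → v < 2 ^ 18 →
    (w.map (baseMat F ω)).prod *ᵥ κv ω v = κv ω (apW D.T w v) ∧ apW D.T w v < 2 ^ 18 := by
  intro w
  induction w with
  | nil => intro v _ hv; simpa [apW] using hv
  | cons b w ih =>
    intro v hw hv
    obtain ⟨e, l⟩ := ih v (fun c hc => hw c (List.mem_cons_of_mem _ hc)) hv
    have he : apW D.T (b :: w) v = apT (D.T b) (apW D.T w v) := by
      rw [apW]; split <;> rename_i h <;> rw [h]
    obtain ⟨e', l'⟩ := apT_spec hF hω D (hw b List.mem_cons_self) l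
    rw [he, List.map_cons, List.prod_cons, ← Matrix.mulVec_mulVec, e, e']
    exact ⟨rfl, l'⟩

omit hF hω D in
theorem κv_single (z : F9) : κv ω (4 ^ ix z) = Pi.single z (1 : F) := by
  funext y
  have h : ∀ z y : F9, dig (4 ^ ix z) (ix y) = if y = z then 1 else 0 := by decide
  rw [κv, h, Pi.single_apply]
  split_ifs <;> simp [κ]

theorem word_eq {M : Matrix F9 F9 F} {C : F9 → F9 → ℕ} (hM : ∀ w z, M w z = κ ω (C w z))
    {w : List ℕ} (h : wordOK D.T C w = true) :
    (∀ b ∈ w, b < 6) ∧ M = (w.map (baseMat F ω)).prod := by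
  simp only [wordOK, Bool.and_eq_true, List.all_eq_true, Nat.blt_eq] at h
  refine ⟨h.1, Matrix.ext fun i j => ?_⟩
  have h2 := (allIn_iff _ _ _).1 h.2 (ix j) (Nat.zero_le _) (by have := ix_lt j; omega)
  have h3 := (allIn_iff _ _ _).1 h2 (ix i) (Nat.zero_le _) (by have := ix_lt i; omega)
  rw [beq_iff_eq, fz_ix, fz_ix] at h3
  have hlt : 4 ^ ix j < 2 ^ 18 := by
    have := ix_lt j
    calc 4 ^ ix j ≤ 4 ^ 8 := Nat.pow_le_pow_right (by norm_num) (by omega)
      _ < 2 ^ 18 := by norm_num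
  have := congrFun (apW_spec hF hω D w _ h.1 hlt).1 i
  rw [κv_single, Matrix.mulVec_single_one, κv, h3, ← hM] at this
  exact this.symm

/-- The matrices that are products of base matrices. -/
def IsWord (M : Matrix F9 F9 F) : Prop :=
  ∃ w : List ℕ, (∀ b ∈ w, b < 6) ∧ M = (w.map (baseMat F ω)).prod

theorem gens_word {M : Matrix F9 F9 F} (hM : M ∈ j3Gens F ω) : IsWord (ω := ω) M := by
  have hw : ∀ j : ℕ, j < 9 → _ := fun j hj =>
    (allIn_iff _ _ _).1 D.words j (Nat.zero_le _) (by omega)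
  have hw' : ∀ j : ℕ, 1 ≤ j → j < 9 → _ := fun j h1 hj =>
    (allIn_iff _ _ _).1 D.words' j h1 (by omega)
  simp only [Bool.and_eq_true] at hw hw'
  have hne : ∀ Z : F9, Z ≠ 0 → 1 ≤ ix Z := by decide
  rcases hM with ((((⟨Z, rfl⟩ | ⟨Z, rfl⟩) | ⟨Z, rfl⟩) | ⟨Z, hZ, rfl⟩) | ⟨Z, hZ, rfl⟩)
  · have h := (hw _ (ix_lt Z)).1.1
    rw [fz_ix] at h
    exact ⟨_, word_eq hF hω D (j3A_code Z) h⟩
  · have h := (hw _ (ix_lt Z)).1.2
    rw [fz_ix] at h
    exact ⟨_, word_eq hF hω D (j3E_code Z) h⟩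
  · have h := (hw _ (ix_lt Z)).2
    rw [fz_ix] at h
    exact ⟨_, word_eq hF hω D (j3D_code Z) h⟩
  · have h := (hw' _ (hne Z hZ) (ix_lt Z)).1
    rw [fz_ix] at h
    exact ⟨_, word_eq hF hω D (j3B_code Z) h⟩
  · have h := (hw' _ (hne Z hZ) (ix_lt Z)).2
    rw [fz_ix] at h
    exact ⟨_, word_eq hF hω D (j3C_code Z) h⟩

theorem mem_word {g : GL F9 F} (hg : g ∈ threeJ3 F ω) :
    IsWord (ω := ω) (g : Matrix F9 F9 F) := by
  induction hg using Subgroup.closure_induction with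
  | mem x hx => exact gens_word hF hω D hx
  | one => exact ⟨[], by simp, by simp⟩
  | mul a b _ _ ha hb =>
    obtain ⟨u, hu, eu⟩ := ha
    obtain ⟨v, hv, ev⟩ := hb
    refine ⟨u ++ v, fun c hc => (List.mem_append.1 hc).elim (hu c) (hv c), ?_⟩
    rw [List.map_append, List.prod_append, Units.val_mul, eu, ev]
  | inv a _ ha =>
    obtain ⟨u, hu, eu⟩ := ha
    have hpow : a⁻¹ = a ^ (orderOf a - 1) := by
      rw [inv_eq_iff_mul_eq_one, ← pow_succ',
        Nat.sub_add_cancel (orderOf_pos a), pow_orderOf_eq_one]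
    refine ⟨(List.replicate (orderOf a - 1) u).flatten, fun c hc => ?_, ?_⟩
    · obtain ⟨l, hl, hcl⟩ := List.mem_flatten.1 hc
      rw [List.eq_of_mem_replicate hl] at hcl
      exact hu c hcl
    · rw [hpow, Units.val_pow_eq_pow_val, eu, List.map_flatten, List.map_replicate,
        List.prod_flatten, List.map_replicate, List.prod_replicate]

theorem base_mem {b : ℕ} (hb : b < 5) :
    ∃ g ∈ threeJ3 F ω, ((g : GL F9 F) : Matrix F9 F9 F) = baseMat F ω b := by
  have h := (allIn_iff _ _ _).1 D.pows b (Nat.zero_le _) (by omega)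
  simp only [Bool.and_eq_true, Nat.blt_eq] at h
  obtain ⟨-, he⟩ := word_eq hF hω D (M := (1 : Matrix F9 F9 F))
    (fun w z => by by_cases e : w = z <;> simp [e, κ, Matrix.one_apply]) h.2
  rw [List.map_replicate, List.prod_replicate] at he
  have hu := IsUnit.of_pow_eq_one he.symm (by omega : D.ord b ≠ 0)
  refine ⟨hu.unit, Subgroup.subset_closure ?_, hu.unit_spec⟩
  show (hu.unit : Matrix F9 F9 F) ∈ j3Gens F ω
  rw [hu.unit_spec]
  interval_cases b
  · exact Or.inl (Or.inl (Or.inl (Or.inl ⟨_, rfl⟩)))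
  · exact Or.inl (Or.inl (Or.inl (Or.inr ⟨_, rfl⟩)))
  · exact Or.inl (Or.inl (Or.inr ⟨_, rfl⟩))
  · exact Or.inl (Or.inr ⟨(1, 1), by decide, rfl⟩)
  · exact Or.inr ⟨(1, 0), by decide, rfl⟩

theorem scal_spec {v : ℕ} (hv : v < 2 ^ 18) :
    κv ω (apT (D.T 5) v) = ω • κv ω v ∧ apT (D.T 5) v < 2 ^ 18 := by
  obtain ⟨e, l⟩ := apT_spec hF hω D (b := 5) (by norm_num) hv
  refine ⟨?_, l⟩
  rw [← e]
  funext z
  simp [baseMat, Matrix.mulVec_diagonal]

theorem propTo_spec {a b : ℕ} (ha : a < 2 ^ 18) (h : propTo (D.T 5) a b = true) :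
    ∃ c : F, c ≠ 0 ∧ κv ω b = c • κv ω a := by
  have h0 := omega_ne_zero hF hω
  obtain ⟨e1, l1⟩ := scal_spec hF hω D ha
  obtain ⟨e2, -⟩ := scal_spec hF hω D l1
  simp only [propTo, Bool.or_eq_true, beq_iff_eq] at h
  rcases h with (rfl | rfl) | rfl
  · exact ⟨1, one_ne_zero, (one_smul _ _).symm⟩
  · exact ⟨ω, h0, e1⟩
  · exact ⟨ω * ω, mul_ne_zero h0 h0, by rw [e2, e1, smul_smul]⟩

omit hF hω D in
theorem Fam.mem_spec {L : Fam} {v : ℕ} (h : L.mem v = true) : ∃ i, i < L.n ∧ L.vec i = v := by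
  unfold Fam.mem at h
  split at h
  · simp at h
  · rename_i r _
    simp only [Bool.and_eq_true, Nat.blt_eq, beq_iff_eq] at h
    exact ⟨r, h⟩

theorem memAny_spec {L : Fam} {v : ℕ} (hv : v < 2 ^ 18) (h : L.memAny (D.T 5) v = true) :
    ∃ i, i < L.n ∧ ∃ c : F, c ≠ 0 ∧ κv ω (L.vec i) = c • κv ω v := by
  simp only [Fam.memAny, Bool.or_eq_true] at h
  rcases h with (h | h) | h <;> obtain ⟨i, hi, e⟩ := Fam.mem_spec h <;> refine ⟨i, hi, ?_⟩ <;>
    apply propTo_spec hF hω D hv <;> simp [propTo, e]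

theorem reach {L : Fam} (hL : ∀ i, i < L.n → L.reachOK D.T i = true) :
    ∀ i, i < L.n → ∃ g ∈ threeJ3 F ω, ∃ c : F, c ≠ 0 ∧
      (g : Matrix F9 F9 F) *ᵥ κv ω (L.vec 0) = c • κv ω (L.vec i) := by
  intro i
  induction i using Nat.strong_induction_on with
  | _ i ih =>
    intro hi
    rcases Nat.eq_zero_or_pos i with rfl | hpos
    · exact ⟨1, one_mem _, 1, one_ne_zero, by simp⟩
    have h := hL i hi
    simp only [Fam.reachOK, Bool.and_eq_true, Bool.or_eq_true, beq_iff_eq, Nat.blt_eq] at h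
    obtain ⟨-, (h | ⟨⟨hp, hb⟩, hprop⟩)⟩ := h
    · omega
    obtain ⟨g, hg, c, hc, hge⟩ := ih _ hp (by omega)
    obtain ⟨u, hu, hue⟩ := base_mem hF hω D hb
    obtain ⟨e, l⟩ := apT_spec hF hω D (v := L.vec (L.ord i / 2 ^ 18 % 65536))
      (by omega : L.ord i / 2 ^ 34 < 6)
      (Nat.mod_lt _ (by norm_num) : L.vec (L.ord i / 2 ^ 18 % 65536) < 2 ^ 18)
    obtain ⟨d, hd, hde⟩ := propTo_spec hF hω D l hprop
    refine ⟨u * g, mul_mem hu hg, c * d⁻¹, mul_ne_zero hc (inv_ne_zero hd), ?_⟩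
    rw [Units.val_mul, ← Matrix.mulVec_mulVec, hge, Matrix.mulVec_smul, hue, e, hde, smul_smul,
      mul_assoc, inv_mul_cancel₀ hd, mul_one]

theorem orbit_closed {L : Fam} (hL : ∀ i, i < L.n → L.orbOK D.T i = true) {g : GL F9 F}
    (hg : g ∈ threeJ3 F ω) : ∀ i, i < L.n → ∃ j, j < L.n ∧ ∃ c : F, c ≠ 0 ∧
      (g : Matrix F9 F9 F) *ᵥ κv ω (L.vec i) = c • κv ω (L.vec j) := by
  obtain ⟨w, hw, e⟩ := mem_word hF hω D hg
  rw [e]
  clear e
  induction w with
  | nil => intro i hi; exact ⟨i, hi, 1, one_ne_zero, by simp⟩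
  | cons b w ih =>
    intro i hi
    obtain ⟨j, hj, c, hc, hje⟩ := ih (fun x hx => hw x (List.mem_cons_of_mem _ hx)) i hi
    rw [List.map_cons, List.prod_cons, ← Matrix.mulVec_mulVec, hje, Matrix.mulVec_smul]
    have hlt : L.vec j < 2 ^ 18 := Nat.mod_lt _ (by norm_num)
    obtain ⟨e, l⟩ := apT_spec hF hω D (hw b List.mem_cons_self) hlt
    rw [e]
    rcases Nat.lt_or_ge b 5 with hb | hb
    · have h := hL j hj
      simp only [Fam.orbOK, Bool.and_eq_true] at h
      have h := (allIn_iff _ _ _).1 h.2 b (Nat.zero_le _) (by omega)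
      obtain ⟨k, hk, d, hd, hde⟩ := memAny_spec hF hω D l h
      refine ⟨k, hk, c * d⁻¹, mul_ne_zero hc (inv_ne_zero hd), ?_⟩
      rw [hde, smul_smul, mul_assoc, inv_mul_cancel₀ hd, mul_one]
    · obtain rfl : b = 5 := by have := hw b List.mem_cons_self; omega
      refine ⟨j, hj, c * ω, mul_ne_zero hc (omega_ne_zero hF hω), ?_⟩
      rw [(scal_spec hF hω D hlt).1, smul_smul]

omit hF hω D in
theorem line_eq_of_smul {x y : F9 → F} {c : F} (hc : c ≠ 0) (h : x = c • y) : F ∙ x = F ∙ y := by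
  rw [h]
  exact Submodule.span_singleton_smul_eq (IsUnit.mk0 c hc) y

omit D in
theorem κv_inj {a b : ℕ} (ha : a < 2 ^ 18) (hb : b < 2 ^ 18) (h : κv ω a = κv ω b) : a = b := by
  have hd : ∀ j, j < 9 → dig a j = dig b j := fun j hj => by
    have := congrFun h (fz j)
    simp only [κv, ix_fz hj] at this
    exact κ_inj hF hω (dig_lt _ _) (dig_lt _ _) this
  have h0 := hd 0 (by norm_num)
  have h1 := hd 1 (by norm_num)
  have h2 := hd 2 (by norm_num)
  have h3 := hd 3 (by norm_num)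
  have h4 := hd 4 (by norm_num)
  have h5 := hd 5 (by norm_num)
  have h6 := hd 6 (by norm_num)
  have h7 := hd 7 (by norm_num)
  have h8 := hd 8 (by norm_num)
  simp only [dig] at h0 h1 h2 h3 h4 h5 h6 h7 h8
  norm_num at h0 h1 h2 h3 h4 h5 h6 h7 h8 ha hb
  omega

theorem ncard_orbit {L : Fam} (h0 : 0 < L.n) (hreach : ∀ i, i < L.n → L.reachOK D.T i = true)
    (horb : ∀ i, i < L.n → L.orbOK D.T i = true) :
    {X : Submodule F (F9 → F) | ∃ g ∈ threeJ3 F ω,
      X = F ∙ ((g : Matrix F9 F9 F) *ᵥ κv ω (L.vec 0))}.ncard = L.n := by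
  classical
  have hlt : ∀ i, L.vec i < 2 ^ 18 := fun i => Nat.mod_lt _ (by norm_num)
  have hset : {X : Submodule F (F9 → F) | ∃ g ∈ threeJ3 F ω,
      X = F ∙ ((g : Matrix F9 F9 F) *ᵥ κv ω (L.vec 0))} =
      Set.range fun i : Fin L.n => F ∙ κv ω (L.vec i) := by
    ext X
    constructor
    · rintro ⟨g, hg, rfl⟩
      obtain ⟨j, hj, c, hc, e⟩ := orbit_closed hF hω D horb hg 0 h0
      exact ⟨⟨j, hj⟩, (line_eq_of_smul hc e).symm⟩
    · rintro ⟨i, rfl⟩
      obtain ⟨g, hg, c, hc, e⟩ := reach hF hω D hreach i i.2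
      exact ⟨g, hg, (line_eq_of_smul hc e).symm⟩
  rw [hset, ← Set.image_univ, Set.ncard_image_of_injective, Set.ncard_univ, Nat.card_fin]
  intro i j h
  have hi := hreach i i.2
  have hj := hreach j j.2
  simp only [Fam.reachOK, Bool.and_eq_true, beq_iff_eq, Nat.blt_eq] at hi hj
  obtain ⟨c, hc⟩ := Submodule.mem_span_singleton.1
    ((h : (F ∙ κv ω (L.vec i)) = F ∙ κv ω (L.vec j)).le
      (Submodule.mem_span_singleton_self (κv ω (L.vec i))))
  have hzero : κv ω (L.vec i) ≠ 0 := by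
    intro e
    have e0 : κv ω 0 = (0 : F9 → F) := funext fun z => by simp [κv, dig, κ]
    have := κv_inj hF hω (hlt i) (by norm_num) (e.trans e0.symm)
    omega
  have hc0 : c ≠ 0 := fun e => hzero (by rw [← hc, e, zero_smul])
  have hvals : c = 1 ∨ c = ω ∨ c = ω * ω := by
    have h3 : c ^ 3 = 1 := by
      have := FiniteField.pow_card_sub_one_eq_one c hc0
      rwa [hF] at this
    have hz : (c - 1) * ((c - ω) * (c - ω * ω)) = 0 := by
      linear_combination h3 + (-c ^ 2 + c * ω - (ω - 1)) * hω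
    simpa [mul_eq_zero, sub_eq_zero] using hz
  obtain ⟨e1, l1⟩ := scal_spec hF hω D (hlt j)
  obtain ⟨e2, l2⟩ := scal_spec hF hω D l1
  have hsep := horb j j.2
  simp only [Fam.orbOK, Bool.and_eq_true, Bool.not_eq_true'] at hsep
  have hmem : L.mem (L.vec i) = true := by
    simp [Fam.mem, hi.1.1, Nat.blt_eq, i.2]
  rcases hvals with rfl | rfl | rfl
  · rw [one_smul] at hc
    have e := κv_inj hF hω (hlt j) (hlt i) hc
    have hir := hi.1.1
    rw [← e, hj.1.1] at hir
    exact Fin.ext (by omega)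
  · rw [← e1] at hc
    rw [← κv_inj hF hω l1 (hlt i) hc, hsep.1.1] at hmem
    simp at hmem
  · rw [← smul_smul, ← e1, ← e2] at hc
    rw [← κv_inj hF hω l2 (hlt i) hc, hsep.1.2] at hmem
    simp at hmem

theorem isotropic_orbit {L : Fam} (hreach : ∀ i, i < L.n → L.reachOK D.T i = true)
    (hiso : ∀ j r, j < 9 → r < 4 ^ (8 - j) → L.isoOK (D.T 5) j r = true)
    (v : F9 → F) (hv : v ≠ 0) (hv' : ∑ z, v z ^ 3 = 0) :
    ∃ g ∈ threeJ3 F ω, ∃ c : F, c ≠ 0 ∧
      (g : Matrix F9 F9 F) *ᵥ κv ω (L.vec 0) = c • v := by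
  classical
  have h0 := omega_ne_zero hF hω
  have hsurj : ∀ x : F, ∃ n, n < 4 ∧ κ ω n = x := by
    intro x
    rcases eq_or_ne x 0 with rfl | hx
    · exact ⟨0, by norm_num, by simp [κ]⟩
    have h3 : x ^ 3 = 1 := by
      have := FiniteField.pow_card_sub_one_eq_one x hx
      rwa [hF] at this
    have hz : (x - 1) * ((x - ω) * (x - ω * ω)) = 0 := by
      linear_combination h3 + (-x ^ 2 + x * ω - (ω - 1)) * hω
    simp only [mul_eq_zero, sub_eq_zero] at hz
    rcases hz with rfl | rfl | rfl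
    · exact ⟨1, by norm_num, by simp [κ]⟩
    · exact ⟨2, by norm_num, by simp [κ]⟩
    · exact ⟨3, by norm_num, by simp [κ, pow_two]⟩
  -- leading position
  have hex : ∃ j, j < 9 ∧ v (fz j) ≠ 0 := by
    obtain ⟨z, hz⟩ := Function.ne_iff.1 hv
    exact ⟨ix z, ix_lt z, by rwa [fz_ix]⟩
  set j := Nat.find hex
  obtain ⟨hj, hjne⟩ := Nat.find_spec hex
  have hzero : ∀ k, k < j → v (fz k) = 0 := fun k hk => by
    by_contra h
    exact Nat.find_min hex hk ⟨by omega, h⟩
  set u : F9 → F := (v (fz j))⁻¹ • v with hu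
  choose e he hκ using fun k : ℕ => hsurj (u (fz k))
  have hej : e j = 1 := κ_inj hF hω (he j) (by norm_num) (by
    rw [hκ, hu, Pi.smul_apply, smul_eq_mul, inv_mul_cancel₀ hjne]; simp [κ])
  have hek : ∀ k, k < j → e k = 0 := fun k hk => κ_inj hF hω (he k) (by norm_num) (by
    rw [hκ, hu, Pi.smul_apply, smul_eq_mul, hzero k hk, mul_zero]; simp [κ])
  set V := e 0 + 4 * e 1 + 16 * e 2 + 64 * e 3 + 256 * e 4 + 1024 * e 5 + 4096 * e 6 +
    16384 * e 7 + 65536 * e 8 with hV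
  have hVb : V < 4 ^ 9 ∧ ∀ k, k < 9 → dig V k = e k := by
    have := he 0; have := he 1; have := he 2; have := he 3; have := he 4
    have := he 5; have := he 6; have := he 7; have := he 8
    refine ⟨by norm_num; omega, fun k hk => ?_⟩
    interval_cases k <;> norm_num [dig] <;> omega
  have hd4 : ∀ k, dig V k = V / 4 ^ k % 4 := fun k => by
    rw [dig, pow_mul]; norm_num
  have hlow : ∀ i, i ≤ j → V % 4 ^ i = 0 := by
    intro i
    induction i with
    | zero => intro _; exact Nat.mod_one V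
    | succ i ih =>
      intro hij
      rw [Nat.mod_pow_succ, ih (by omega), ← hd4, hVb.2 i (show i < 9 by omega), hek i (by omega),
        mul_zero, Nat.add_zero]
  have hVj : V % 4 ^ (j + 1) = 4 ^ j := by
    rw [Nat.mod_pow_succ, hlow j le_rfl, ← hd4, hVb.2 j hj, hej, mul_one, Nat.zero_add]
  obtain ⟨r, hr, hcode⟩ : ∃ r, r < 4 ^ (8 - j) ∧
      ∀ k, k < 9 → dig (4 ^ j + 4 ^ (j + 1) * r) k = e k := by
    refine ⟨V / 4 ^ (j + 1), ?_, fun k hk => ?_⟩
    · rw [Nat.div_lt_iff_lt_mul (by positivity), ← pow_add, show 8 - j + (j + 1) = 9 by omega]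
      exact hVb.1
    · rw [← hVj, Nat.mod_add_div]
      exact hVb.2 k hk
  set code := 4 ^ j + 4 ^ (j + 1) * r with hcdef
  have hclt : code < 2 ^ 18 := by
    have h4 : 4 ^ (j + 1) * 4 ^ (8 - j) = 4 ^ 9 := by rw [← pow_add]; congr 1; omega
    have : 4 ^ (j + 1) * (r + 1) ≤ 4 ^ (j + 1) * 4 ^ (8 - j) := Nat.mul_le_mul_left _ hr
    have : 4 ^ j < 4 ^ (j + 1) := Nat.pow_lt_pow_right (by norm_num) (by omega)
    norm_num at h4 ⊢
    rw [Nat.mul_add] at *
    omega
  have hκu : κv ω code = u := funext fun z => by rw [κv, hcode _ (ix_lt z), hκ, fz_ix]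
  have hpar : weightPar code = 0 := by
    have key : ∀ l : List ℕ,
        κ ω (l.foldr (fun k s => (bif dig code k == 0 then 0 else 1) ^^^ s) 0) =
          (l.map fun k => κ ω (dig code k) ^ 3).sum ∧
        l.foldr (fun k s => (bif dig code k == 0 then 0 else 1) ^^^ s) 0 < 2 := by
      intro l
      induction l with
      | nil => simp [κ]
      | cons a l ih =>
        have hb : (bif dig code a == 0 then 0 else 1) < 2 := by
          rcases Bool.eq_false_or_eq_true (dig code a == 0) with h | h <;> simp [h]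
        refine ⟨?_, Nat.xor_lt_two_pow (n := 1) hb ih.2⟩
        rw [List.foldr_cons, κ_xor hF hω (by omega) (by omega), List.map_cons, List.sum_cons, ih.1]
        congr 1
        have hω3 : ω ^ 3 = 1 := by linear_combination (ω - 1) * hω
        have hd := dig_lt code a
        generalize dig code a = d at hd ⊢
        interval_cases d <;> simp [κ, hω3]
        rw [← pow_mul, show 2 * 3 = 3 * 2 from rfl, pow_mul, hω3, one_pow]
    have hsum : ((List.range 9).map fun k => κ ω (dig code k) ^ 3).sum = 0 := by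
      have hu0 : ∑ z, u z ^ 3 = 0 := by
        simp only [hu, Pi.smul_apply, smul_eq_mul, mul_pow, ← Finset.mul_sum, hv', mul_zero]
      have hun : (Finset.univ : Finset F9) = (Finset.range 9).image fz := by decide
      rw [hun, Finset.sum_image (fun a ha b hb e => by
        rw [← ix_fz (Finset.mem_range.1 ha), e, ix_fz (Finset.mem_range.1 hb)]),
        Finset.sum_eq_multiset_sum] at hu0
      rw [← hu0]
      exact congrArg List.sum (List.map_congr_left fun k hk => by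
        rw [← hκu, κv, ix_fz (List.mem_range.1 hk)])
    have h := (key (List.range 9)).1.trans hsum
    exact κ_inj hF hω (by have := (key (List.range 9)).2; unfold weightPar; omega) (by norm_num)
      (h.trans (by simp [κ]))
  have h := hiso j r hj hr
  simp only [Fam.isoOK, ← hcdef, hpar, Bool.or_eq_true, beq_iff_eq, Nat.zero_ne_one,
    false_or] at h
  obtain ⟨i, hi, d, hd, hde⟩ := memAny_spec hF hω D hclt h
  obtain ⟨g, hg, c, hc, hge⟩ := reach hF hω D hreach i hi
  refine ⟨g, hg, c * d * (v (fz j))⁻¹, mul_ne_zero (mul_ne_zero hc hd) (inv_ne_zero hjne), ?_⟩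
  rw [hge, hde, hκu, hu, smul_smul, smul_smul]

end H29.ThreeJ
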